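import Mathlib
import Groth.Prelude.Def_TorSh
import Groth.Agent.QCoh.Stalk
import Groth.Agent.QCoh.God
import Groth.Agent.ZClosLib.Basic

/-!
Torsion-free modules on integral schemes and the sheaf of rational functions.
-/

set_option autoImplicit false
set_option linter.style.haveILetI false
set_option linter.unusedSectionVars false
set_option backward.isDefEq.respectTransparency false
set_option backward.isDefEq.respectTransparency.types false

universe u

open CategoryTheory CategoryTheory.Limits AlgebraicGeometry TopologicalSpace Opposite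

namespace Groth.Agent.TorLib

variable {X : Scheme.{u}}

theorem res_smul (M : X.Modules) {U V : X.Opens} (h : V ≤ U) (r : Γ(X, U)) (m : Γ(M, U)) :
    M.presheaf.map (homOfLE h).op (r • m) =
      X.presheaf.map (homOfLE h).op r • M.presheaf.map (homOfLE h).op m :=
  PresheafOfModules.map_smul M.val (homOfLE h).op r m

/-- A relation in the stalk holds on a neighbourhood. -/
theorem exists_smul_res_eq_zero (M : X.Modules) {x : X} {U : X.Opens} (hx : x ∈ U) (s : Γ(M, U))
    (a : X.presheaf.stalk x) (h : a • M.presheaf.germ U x hx s = 0) :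
    ∃ (V : X.Opens) (hV : V ≤ U) (hxV : x ∈ V) (r : Γ(X, V)),
      X.presheaf.germ V x hxV r = a ∧ r • M.presheaf.map (homOfLE hV).op s = 0 := by
  obtain ⟨W, hxW, r, rfl⟩ := TopCat.Presheaf.exists_germ_eq X.presheaf a
  have hx' : x ∈ W ⊓ U := ⟨hxW, hx⟩
  let t : Γ(M, W ⊓ U) := X.presheaf.map (homOfLE (inf_le_left : W ⊓ U ≤ W)).op r •
    M.presheaf.map (homOfLE (inf_le_right : W ⊓ U ≤ U)).op s
  have ht : M.presheaf.germ (W ⊓ U) x hx' t = M.presheaf.germ (W ⊓ U) x hx' 0 := by
    rw [map_zero, QCoh.germ_smul', M.presheaf.germ_res_apply, X.presheaf.germ_res_apply]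
    exact h
  obtain ⟨V, hxV, i₁, i₂, hV⟩ := M.presheaf.germ_eq x hx' hx' _ _ ht
  refine ⟨V, i₁.le.trans inf_le_right, hxV, X.presheaf.map (homOfLE (i₁.le.trans inf_le_left)).op r,
    X.presheaf.germ_res_apply (homOfLE _) x hxV r, ?_⟩
  rw [map_zero] at hV
  refine Eq.trans ?_ hV
  show _ = M.presheaf.map (homOfLE i₁.le).op t
  rw [res_smul, ← CategoryTheory.comp_apply, ← CategoryTheory.comp_apply, ← Functor.map_comp,
    ← Functor.map_comp]
  rfl

section Integral

variable [IsIntegral X] {F : X.Modules}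

theorem genericPoint_mem {U : X.Opens} {x : X} (hx : x ∈ U) : genericPoint X ∈ U :=
  ((genericPoint_spec X).mem_open_set_iff U.isOpen).mpr ⟨x, by simpa using hx⟩

theorem germ_ne_zero {U : X.Opens} {x : X} (hx : x ∈ U) {r : Γ(X, U)} (hr : r ≠ 0) :
    X.presheaf.germ U x hx r ≠ 0 := fun h =>
  hr (germ_injective_of_isIntegral X x hx (h.trans (map_zero _).symm))

theorem isDomain_stalk (x : X) : IsDomain (X.presheaf.stalk x) := inferInstance

theorem isTorsionFree_iff {x : X} (M : X.Modules) :
    Module.IsTorsionFree (X.presheaf.stalk x) (M.presheaf.stalk x) ↔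
      ∀ (a : X.presheaf.stalk x) (v : M.presheaf.stalk x), a • v = 0 → a = 0 ∨ v = 0 := by
  constructor
  · intro h a v hav
    by_cases ha : a = 0
    · exact Or.inl ha
    · exact Or.inr ((smul_eq_zero_iff_right ha).mp hav)
  · intro h
    exact Module.IsTorsionFree.of_smul_eq_zero h

theorem eq_zero_of_germ_genericPoint (hF : Coh.IsQCoh F) (htF : TorSh.IsTorsionFree F) {U : X.Opens}
    (hξ : genericPoint X ∈ U) (s : Γ(F, U)) (h : F.presheaf.germ U (genericPoint X) hξ s = 0) : s = 0 := by
  refine TopCat.Presheaf.section_ext ⟨F.presheaf, F.isSheaf⟩ U _ _ fun z hz => ?_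
  show F.presheaf.germ U z hz s = F.presheaf.germ U z hz 0
  rw [map_zero]
  obtain ⟨_, ⟨W, hW, rfl⟩, hzW, hWU'⟩ :=
    X.isBasis_affineOpens.exists_subset_of_mem_open hz U.2
  have hW' : IsAffineOpen W := hW
  have hWU : W ≤ U := hWU'
  have hξW : genericPoint X ∈ W := genericPoint_mem hzW
  have h' : F.presheaf.germ W (genericPoint X) hξW (F.presheaf.map (homOfLE hWU).op s) = 0 := by
    rw [F.presheaf.germ_res_apply]; exact h
  letI := QCoh.stalkModule F hξW
  haveI := QCoh.isLocalizedModule_germLin hF hW' hξW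
  obtain ⟨c, hc⟩ := (IsLocalizedModule.eq_zero_iff
    (hW'.primeIdealOf ⟨genericPoint X, hξW⟩).asIdeal.primeCompl (QCoh.germLin F hξW)).mp h'
  rw [Submonoid.smul_def] at hc
  have hc0 : (c : Γ(X, W)) ≠ 0 := fun h0 => c.2 (by rw [h0]; exact Submodule.zero_mem _)
  have h1 := congrArg (F.presheaf.germ W z hzW) hc
  rw [map_zero, QCoh.germ_smul'] at h1
  have h2 := ((isTorsionFree_iff F).mp (htF z) _ _ h1).resolve_left (germ_ne_zero hzW hc0)
  rwa [F.presheaf.germ_res_apply] at h2

theorem generic_subsingleton_of_subsingleton (hF : Coh.IsQCoh F) {z : X}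
    (h : Subsingleton (F.presheaf.stalk z)) : Subsingleton (F.presheaf.stalk (genericPoint X)) := by
  obtain ⟨_, ⟨W, hW, rfl⟩, hzW, -⟩ :=
    X.isBasis_affineOpens.exists_subset_of_mem_open (Set.mem_univ z) isOpen_univ
  have hW' : IsAffineOpen W := hW
  have hξW : genericPoint X ∈ W := genericPoint_mem hzW
  letI := QCoh.stalkModule F hξW
  haveI := QCoh.isLocalizedModule_germLin hF hW' hξW
  letI := QCoh.stalkModule F hzW
  haveI := QCoh.isLocalizedModule_germLin hF hW' hzW
  refine ⟨fun a b => ?_⟩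
  suffices h0 : ∀ m : Γ(F, W), F.presheaf.germ W (genericPoint X) hξW m = 0 by
    letI := QCoh.stalkModule F hξW
    have : ∀ v : F.presheaf.stalk (genericPoint X), v = 0 := fun v => by
      obtain ⟨⟨m, c⟩, hm⟩ := IsLocalizedModule.surj
        (hW'.primeIdealOf ⟨genericPoint X, hξW⟩).asIdeal.primeCompl (QCoh.germLin F hξW) v
      refine (IsLocalizedModule.smul_inj (QCoh.germLin F hξW) c v 0).mp ?_
      rw [hm, smul_zero]
      exact h0 m
    rw [this a, this b]
  intro m
  obtain ⟨c, hc⟩ := (IsLocalizedModule.eq_zero_iff (hW'.primeIdealOf ⟨z, hzW⟩).asIdeal.primeCompl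
    (QCoh.germLin F hzW)).mp (Subsingleton.elim (QCoh.germLin F hzW m) 0)
  rw [Submonoid.smul_def] at hc
  have hc0 : (c : Γ(X, W)) ≠ 0 := fun h0 => c.2 (by rw [h0]; exact Submodule.zero_mem _)
  have h1 := congrArg (F.presheaf.germ W (genericPoint X) hξW) hc
  rw [map_zero, QCoh.germ_smul'] at h1
  have hu : IsUnit (X.presheaf.germ W (genericPoint X) hξW (c : Γ(X, W))) :=
    isUnit_iff_ne_zero.mpr (germ_ne_zero hξW hc0)
  exact hu.smul_eq_zero.mp h1

theorem torsion_tfae (hF : Coh.IsQCoh F) :
    List.TFAE [∀ (x : X) (s : F.presheaf.stalk x), ∃ a : X.presheaf.stalk x, a ≠ 0 ∧ a • s = 0,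
      Subsingleton (F.presheaf.stalk (genericPoint X)),
      CohB1.support F ≠ Set.univ] := by
  tfae_have 1 → 2 := fun h => by
    refine subsingleton_of_forall_eq 0 fun v => ?_
    obtain ⟨a, ha, hav⟩ := h (genericPoint X) v
    exact (isUnit_iff_ne_zero.mpr ha).smul_eq_zero.mp hav
  tfae_have 2 → 3 := fun h heq => (heq ▸ Set.mem_univ (genericPoint X) : genericPoint X ∈ CohB1.support F) h
  tfae_have 3 → 2 := fun h => by
    obtain ⟨z, hz⟩ := (Set.ne_univ_iff_exists_notMem _).mp h
    exact generic_subsingleton_of_subsingleton hF (not_not.mp hz)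
  tfae_have 2 → 1 := fun h x s => by
    obtain ⟨U, hx, t, rfl⟩ := TopCat.Presheaf.exists_germ_eq F.presheaf s
    have hξ := genericPoint_mem hx
    obtain ⟨V, hxV, i₁, i₂, hV⟩ := F.presheaf.germ_eq (genericPoint X) hξ hξ t 0
      (Subsingleton.elim (α := F.presheaf.stalk (genericPoint X)) _ _)
    obtain ⟨_, ⟨W, hW, rfl⟩, hxW, hWU'⟩ := X.isBasis_affineOpens.exists_subset_of_mem_open hx U.2
    have hW' : IsAffineOpen W := hW
    have hWU : W ≤ U := hWU'
    have hξW : genericPoint X ∈ W := genericPoint_mem hxW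
    letI := QCoh.stalkModule F hξW
    haveI := QCoh.isLocalizedModule_germLin hF hW' hξW
    obtain ⟨c, hc⟩ := (IsLocalizedModule.eq_zero_iff
      (hW'.primeIdealOf ⟨genericPoint X, hξW⟩).asIdeal.primeCompl (QCoh.germLin F hξW)).mp
      (Subsingleton.elim (α := F.presheaf.stalk (genericPoint X))
        (QCoh.germLin F hξW (F.presheaf.map (homOfLE hWU).op t)) 0)
    rw [Submonoid.smul_def] at hc
    have hc0 : (c : Γ(X, W)) ≠ 0 := fun h0 => c.2 (by rw [h0]; exact Submodule.zero_mem _)
    refine ⟨X.presheaf.germ W x hxW (c : Γ(X, W)), germ_ne_zero hxW hc0, ?_⟩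
    have h1 := congrArg (F.presheaf.germ W x hxW) hc
    rw [map_zero, QCoh.germ_smul', F.presheaf.germ_res_apply] at h1
    exact h1
  tfae_finish

theorem isTorsionFree_pushforward {Y : Scheme.{u}} [IsIntegral Y] (f : X ⟶ Y) [IsDominant f]
    (htF : TorSh.IsTorsionFree F) : TorSh.IsTorsionFree ((Scheme.Modules.pushforward f).obj F) := by
  intro y
  rw [isTorsionFree_iff]
  intro a v hav
  by_cases ha : a = 0
  · exact Or.inl ha
  refine Or.inr ?_
  obtain ⟨U, hy, s, rfl⟩ := TopCat.Presheaf.exists_germ_eq ((Scheme.Modules.pushforward f).obj F).presheaf v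
  obtain ⟨V, hVU, hyV, r, hr, hrs⟩ := exists_smul_res_eq_zero _ hy s a hav
  let s' : Γ(F, f ⁻¹ᵁ V) := ((Scheme.Modules.pushforward f).obj F).presheaf.map (homOfLE hVU).op s
  have hr0 : r ≠ 0 := fun h0 => ha (by rw [← hr, h0, map_zero])
  have hrs' : (f.app V).hom r • s' = 0 := hrs
  have hfr : (f.app V).hom r ≠ 0 := by
    intro h0
    have hne : (Y.basicOpen r : Set Y).Nonempty := by
      rw [Set.nonempty_iff_ne_empty]
      intro he
      exact hr0 ((basicOpen_eq_bot_iff r).mp (SetLike.coe_injective he))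
    obtain ⟨_, hmem, x, rfl⟩ := mem_closure_iff.mp
      (f.denseRange hne.some : hne.some ∈ closure (Set.range f)) _ (Y.basicOpen r).2 hne.some_mem
    have h1 : x ∈ f ⁻¹ᵁ Y.basicOpen r := hmem
    rw [Scheme.preimage_basicOpen] at h1
    have h2 : X.basicOpen ((f.app V).hom r) = ⊥ := by rw [h0, Scheme.basicOpen_zero]
    rw [h2] at h1
    exact h1
  have hs0 : s' = 0 := by
    refine TopCat.Presheaf.section_ext ⟨F.presheaf, F.isSheaf⟩ (f ⁻¹ᵁ V) _ _ fun z hz => ?_
    show F.presheaf.germ _ z hz s' = F.presheaf.germ _ z hz 0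
    rw [map_zero]
    have h1 := congrArg (F.presheaf.germ _ z hz) hrs'
    rw [map_zero, QCoh.germ_smul'] at h1
    exact ((isTorsionFree_iff F).mp (htF z) _ _ h1).resolve_left (germ_ne_zero hz hfr)
  rw [← ((Scheme.Modules.pushforward f).obj F).presheaf.germ_res_apply (homOfLE hVU) y hyV s]
  exact (congrArg _ (show ((Scheme.Modules.pushforward f).obj F).presheaf.map (homOfLE hVU).op s = 0 from hs0)).trans
    (map_zero _)

end Integral

section Rational

variable [IsIntegral X]

/-- The sheaf of rational functions. -/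
noncomputable abbrev ratSheaf (X : Scheme.{u}) [IsIntegral X] : X.Modules :=
  (Scheme.Modules.pushforward (X.fromSpecStalk (genericPoint X))).obj
    (Coh.structureModule (Spec (X.presheaf.stalk (genericPoint X))))

theorem map_map_apply {Z : Scheme.{u}} {a b c : Z.Opensᵒᵖ} (f : a ⟶ b) (g : b ⟶ c) (t : Z.presheaf.obj a) :
    Z.presheaf.map g (Z.presheaf.map f t) = Z.presheaf.map (f ≫ g) t := by
  rw [Functor.map_comp]; rfl

theorem top_le_preimage {U : X.Opens} (hξ : genericPoint X ∈ U) :
    (⊤ : (Spec (X.presheaf.stalk (genericPoint X))).Opens) ≤ X.fromSpecStalk (genericPoint X) ⁻¹ᵁ U := by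
  intro p _
  have hp : X.fromSpecStalk (genericPoint X) p ⤳ genericPoint X := by
    have : X.fromSpecStalk (genericPoint X) p ∈ Set.range (X.fromSpecStalk (genericPoint X)) := ⟨p, rfl⟩
    rwa [Scheme.range_fromSpecStalk] at this
  exact hp.mem_open U.2 hξ

/-- The value of a rational section. -/
noncomputable def val {U : X.Opens} (hξ : genericPoint X ∈ U)
    (t : Γ(Spec (X.presheaf.stalk (genericPoint X)), X.fromSpecStalk (genericPoint X) ⁻¹ᵁ U)) :
    X.presheaf.stalk (genericPoint X) :=
  (Scheme.ΓSpecIso _).hom ((Spec (X.presheaf.stalk (genericPoint X))).presheaf.map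
    (homOfLE (top_le_preimage hξ)).op t)

theorem val_zero {U : X.Opens} (hξ : genericPoint X ∈ U) : val hξ 0 = 0 := by
  simp [val]

theorem val_app {U : X.Opens} (hξ : genericPoint X ∈ U) (r : Γ(X, U)) :
    val hξ ((X.fromSpecStalk (genericPoint X)).app U r) = X.presheaf.germ U (genericPoint X) hξ r := by
  rw [val, Scheme.fromSpecStalk_app hξ]
  simp only [CommRingCat.comp_apply]
  rw [map_map_apply]
  rw [show (homOfLE le_top).op ≫ (homOfLE (top_le_preimage hξ)).op =
    𝟙 (op (⊤ : (Spec (X.presheaf.stalk (genericPoint X))).Opens)) from Subsingleton.elim _ _]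
  rw [CategoryTheory.Functor.map_id]
  simp

theorem val_add {U : X.Opens} (hξ : genericPoint X ∈ U)
    (a b : Γ(Spec (X.presheaf.stalk (genericPoint X)), X.fromSpecStalk (genericPoint X) ⁻¹ᵁ U)) :
    val hξ (a + b) = val hξ a + val hξ b := by
  simp [val]

theorem val_mul {U : X.Opens} (hξ : genericPoint X ∈ U)
    (a b : Γ(Spec (X.presheaf.stalk (genericPoint X)), X.fromSpecStalk (genericPoint X) ⁻¹ᵁ U)) :
    val hξ (a * b) = val hξ a * val hξ b := by
  simp [val]

theorem val_injective {U : X.Opens} (hξ : genericPoint X ∈ U) : Function.Injective (val hξ) := by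
  intro a b h
  have h1 := (Scheme.ΓSpecIso (X.presheaf.stalk (genericPoint X))).commRingCatIsoToRingEquiv.injective h
  have h2 := congrArg ((Spec (X.presheaf.stalk (genericPoint X))).presheaf.map
    (homOfLE (le_top : X.fromSpecStalk (genericPoint X) ⁻¹ᵁ U ≤ ⊤)).op) h1
  rw [map_map_apply, map_map_apply] at h2
  rw [show (homOfLE (top_le_preimage hξ)).op ≫ (homOfLE le_top).op =
    𝟙 (op (X.fromSpecStalk (genericPoint X) ⁻¹ᵁ U)) from Subsingleton.elim _ _] at h2
  rw [CategoryTheory.Functor.map_id] at h2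
  exact h2

theorem subsingleton_of_notMem {U : X.Opens} (hξ : genericPoint X ∉ U) :
    Subsingleton Γ(Spec (X.presheaf.stalk (genericPoint X)), X.fromSpecStalk (genericPoint X) ⁻¹ᵁ U) := by
  have hbot : X.fromSpecStalk (genericPoint X) ⁻¹ᵁ U = ⊥ := by
    ext p
    simp only [Opens.coe_bot, Set.mem_empty_iff_false, iff_false]
    exact fun hp => hξ (genericPoint_mem (U := U) hp)
  rw [hbot]
  infer_instance

/-- The section with a given value. -/
noncomputable def ofVal (U : X.Opens) (c : X.presheaf.stalk (genericPoint X)) :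
    Γ(Spec (X.presheaf.stalk (genericPoint X)), X.fromSpecStalk (genericPoint X) ⁻¹ᵁ U) :=
  (Spec (X.presheaf.stalk (genericPoint X))).presheaf.map (homOfLE le_top).op ((Scheme.ΓSpecIso _).inv c)

theorem val_ofVal {U : X.Opens} (hξ : genericPoint X ∈ U) (c : X.presheaf.stalk (genericPoint X)) :
    val hξ (ofVal U c) = c := by
  rw [val, ofVal, map_map_apply]
  rw [show (homOfLE le_top).op ≫ (homOfLE (top_le_preimage hξ)).op =
    𝟙 (op (⊤ : (Spec (X.presheaf.stalk (genericPoint X))).Opens)) from Subsingleton.elim _ _]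
  rw [CategoryTheory.Functor.map_id]
  simp

theorem val_res {U V : X.Opens} (h : V ≤ U) (hξ : genericPoint X ∈ V)
    (t : Γ(Spec (X.presheaf.stalk (genericPoint X)), X.fromSpecStalk (genericPoint X) ⁻¹ᵁ U)) :
    val hξ ((Spec (X.presheaf.stalk (genericPoint X))).presheaf.map
      (homOfLE ((X.fromSpecStalk (genericPoint X)).preimage_mono h)).op t) = val (h hξ) t := by
  rw [val, val, map_map_apply]
  rfl

/-- The sectionwise values of the map to rational functions given by a functional on the generic stalk. -/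
noncomputable def toRatApp (F : X.Modules)
    (θ : F.presheaf.stalk (genericPoint X) →ₗ[X.presheaf.stalk (genericPoint X)] X.presheaf.stalk (genericPoint X))
    (U : X.Opens) (m : Γ(F, U)) :
    Γ(Spec (X.presheaf.stalk (genericPoint X)), X.fromSpecStalk (genericPoint X) ⁻¹ᵁ U) :=
  haveI := Classical.propDecidable (genericPoint X ∈ U)
  if h : genericPoint X ∈ U then ofVal U (θ (F.presheaf.germ U (genericPoint X) h m)) else 0

theorem val_toRatApp (F : X.Modules)
    (θ : F.presheaf.stalk (genericPoint X) →ₗ[X.presheaf.stalk (genericPoint X)] X.presheaf.stalk (genericPoint X))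
    {U : X.Opens} (hξ : genericPoint X ∈ U) (m : Γ(F, U)) :
    val hξ (toRatApp F θ U m) = θ (F.presheaf.germ U (genericPoint X) hξ m) := by
  rw [toRatApp, dif_pos hξ, val_ofVal]

theorem rat_ext {U : X.Opens}
    {a b : Γ(Spec (X.presheaf.stalk (genericPoint X)), X.fromSpecStalk (genericPoint X) ⁻¹ᵁ U)}
    (h : ∀ hξ : genericPoint X ∈ U, val hξ a = val hξ b) : a = b := by
  by_cases hξ : genericPoint X ∈ U
  · exact val_injective hξ (h hξ)
  · haveI := subsingleton_of_notMem hξ
    exact Subsingleton.elim _ _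

theorem exists_mono_toRat {F : X.Modules} (hF : Coh.IsQCoh F) (htF : TorSh.IsTorsionFree F)
    (h1 : Module.finrank (X.presheaf.stalk (genericPoint X)) (F.presheaf.stalk (genericPoint X)) = 1) :
    ∃ i : F ⟶ ratSheaf X, Mono i := by
  let K := X.presheaf.stalk (genericPoint X)
  letI : Field K := inferInstanceAs (Field X.functionField)
  haveI : Module.Finite K (F.presheaf.stalk (genericPoint X)) :=
    Module.finite_of_finrank_eq_succ h1
  obtain ⟨θ⟩ : Nonempty (F.presheaf.stalk (genericPoint X) ≃ₗ[K] K) :=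
    FiniteDimensional.nonempty_linearEquiv_of_finrank_eq (by rw [h1, Module.finrank_self])
  let φ : F ⟶ ratSheaf X :=
    ⟨PresheafOfModules.homMk
      { app := fun U => AddCommGrpCat.ofHom (AddMonoidHom.mk'
          (fun s : Γ(F, U.unop) => (show Γ(ratSheaf X, U.unop) from toRatApp F θ.toLinearMap U.unop s))
          fun s t => rat_ext fun hξ => by
            show val hξ (toRatApp F θ.toLinearMap U.unop (s + t)) =
              val hξ (toRatApp F θ.toLinearMap U.unop s + toRatApp F θ.toLinearMap U.unop t)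
            rw [val_toRatApp, val_add, val_toRatApp, val_toRatApp, map_add, map_add])
        naturality := fun U V i => AddCommGrpCat.ext fun s => rat_ext fun hξ => by
          show val hξ (toRatApp F θ.toLinearMap V.unop (F.presheaf.map i s)) =
            val hξ ((Spec K).presheaf.map (homOfLE ((X.fromSpecStalk (genericPoint X)).preimage_mono i.unop.le)).op
              (toRatApp F θ.toLinearMap U.unop s))
          rw [val_res i.unop.le, val_toRatApp, val_toRatApp]
          exact congrArg θ.toLinearMap (F.presheaf.germ_res_apply i.unop _ hξ s) }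
      fun U (r : Γ(X, U.unop)) (s : Γ(F, U.unop)) => rat_ext fun hξ => by
        show val hξ (toRatApp F θ.toLinearMap U.unop (r • s)) =
          val hξ ((X.fromSpecStalk (genericPoint X)).app U.unop r * toRatApp F θ.toLinearMap U.unop s)
        rw [val_mul, val_app, val_toRatApp, val_toRatApp, QCoh.germ_smul', map_smul, smul_eq_mul]⟩
  refine ⟨φ, QCoh.mono_of_app_injective φ fun U => ?_⟩
  rw [injective_iff_map_eq_zero]
  intro s hs
  by_cases hξ : genericPoint X ∈ U
  · refine eq_zero_of_germ_genericPoint hF htF hξ s (θ.injective ?_)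
    rw [map_zero]
    have h2 := congrArg (val hξ) (show toRatApp F θ.toLinearMap U s = 0 from hs)
    rwa [val_toRatApp, val_zero] at h2
  · have hU : U = ⊥ := by
      ext p
      simp only [Opens.coe_bot, Set.mem_empty_iff_false, iff_false]
      exact fun hp => hξ (genericPoint_mem hp)
    subst hU
    exact TopCat.Presheaf.section_ext ⟨F.presheaf, F.isSheaf⟩ ⊥ _ _ fun z hz => absurd hz (by simp)

theorem torsionFree_rank_one_of_mono {G : X.Modules} (i : G ⟶ ratSheaf X) [Mono i]
    (hG : ¬ Limits.IsZero G) :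
    TorSh.IsTorsionFree G ∧
      Module.finrank (X.presheaf.stalk (genericPoint X)) (G.presheaf.stalk (genericPoint X)) = 1 := by
  let K := X.presheaf.stalk (genericPoint X)
  letI : Field K := inferInstanceAs (Field X.functionField)
  let ev : ∀ {U : X.Opens} (hξ : genericPoint X ∈ U), Γ(G, U) → K := fun {U} hξ s => val hξ (i.app U s)
  have hinj : ∀ {U : X.Opens} (hξ : genericPoint X ∈ U), Function.Injective (ev hξ) := fun hξ a b h =>
    ZClosLib.app_injective_of_mono i _ (val_injective hξ h)
  have hev_smul : ∀ {U : X.Opens} (hξ : genericPoint X ∈ U) (r : Γ(X, U)) (s : Γ(G, U)),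
      ev hξ (r • s) = X.presheaf.germ U (genericPoint X) hξ r * ev hξ s := fun {U} hξ r s => by
    show val hξ (i.app U (r • s)) = _
    rw [Scheme.Modules.Hom.app_smul]
    show val hξ ((X.fromSpecStalk (genericPoint X)).app U r * _) = _
    rw [val_mul, val_app]
  have hev_zero : ∀ {U : X.Opens} (hξ : genericPoint X ∈ U), ev hξ 0 = 0 := fun {U} hξ => by
    show val hξ (i.app U 0) = 0
    rw [map_zero]
    exact val_zero hξ
  have hev_res : ∀ {U V : X.Opens} (h : V ≤ U) (hξ : genericPoint X ∈ V) (s : Γ(G, U)),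
      ev hξ (G.presheaf.map (homOfLE h).op s) = ev (h hξ) s := fun {U V} h hξ s => by
    show val hξ (i.app V (G.presheaf.map (homOfLE h).op s)) = val (h hξ) (i.app U s)
    rw [← val_res h hξ]
    exact congrArg (val hξ) (ConcreteCategory.congr_hom (i.mapPresheaf.naturality (homOfLE h).op) s)
  refine ⟨fun x => ?_, ?_⟩
  · rw [isTorsionFree_iff]
    intro a v hav
    by_cases ha : a = 0
    · exact Or.inl ha
    refine Or.inr ?_
    obtain ⟨U, hx, s, rfl⟩ := TopCat.Presheaf.exists_germ_eq G.presheaf v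
    obtain ⟨V, hVU, hxV, r, hr, hrs⟩ := exists_smul_res_eq_zero _ hx s a hav
    have hξ := genericPoint_mem hxV
    have h1 := congrArg (ev hξ) hrs
    rw [hev_smul, hev_zero, mul_eq_zero] at h1
    have hr0 : r ≠ 0 := fun h0 => ha (by rw [← hr, h0, map_zero])
    have h2 : G.presheaf.map (homOfLE hVU).op s = 0 :=
      hinj hξ ((h1.resolve_left (germ_ne_zero hξ hr0)).trans (hev_zero hξ).symm)
    rw [← G.presheaf.germ_res_apply (homOfLE hVU) x hxV s, h2, map_zero]
  · -- a nonzero germ at the generic point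
    obtain ⟨U, s, hs⟩ : ∃ (U : X.Opens) (s : Γ(G, U)), s ≠ 0 := by
      by_contra hne
      push Not at hne
      refine hG ((IsZero.iff_id_eq_zero _).mpr (Scheme.Modules.hom_ext _ _ fun U => ?_))
      ext s
      simp [hne U s]
    obtain ⟨z, hz⟩ : ∃ z, z ∈ U := by
      by_contra hne
      push Not at hne
      exact hs (TopCat.Presheaf.section_ext ⟨G.presheaf, G.isSheaf⟩ U _ _ fun z hz => absurd hz (hne z))
    have hξ := genericPoint_mem hz
    refine (finrank_eq_one_iff_of_nonzero' (G.presheaf.germ U (genericPoint X) hξ s) ?_).mpr fun w => ?_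
    · intro h0
      rw [← map_zero (G.presheaf.germ U (genericPoint X) hξ).hom] at h0
      obtain ⟨V, hxV, i₁, i₂, hV⟩ := G.presheaf.germ_eq (genericPoint X) hξ hξ s 0 h0
      refine hs (hinj hξ ?_)
      rw [← hev_res i₁.le hxV s, hev_zero, ← hev_zero hxV]
      congr 1
      rw [map_zero] at hV
      exact hV
    · obtain ⟨U', hξ', t, rfl⟩ := TopCat.Presheaf.exists_germ_eq G.presheaf w
      have ha : ev hξ s ≠ 0 := fun h0 => hs (hinj hξ (h0.trans (hev_zero hξ).symm))
      obtain ⟨W, hξW, r, hr⟩ := TopCat.Presheaf.exists_germ_eq X.presheaf (ev hξ' t / ev hξ s : K)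
      refine ⟨ev hξ' t / ev hξ s, ?_⟩
      have hV : genericPoint X ∈ U ⊓ U' ⊓ W := ⟨⟨hξ, hξ'⟩, hξW⟩
      have key : (X.presheaf.map (homOfLE (inf_le_right : U ⊓ U' ⊓ W ≤ W)).op r : Γ(X, U ⊓ U' ⊓ W)) •
          (G.presheaf.map (homOfLE (inf_le_left.trans inf_le_left : U ⊓ U' ⊓ W ≤ U)).op s :
            Γ(G, U ⊓ U' ⊓ W)) =
          G.presheaf.map (homOfLE (inf_le_left.trans inf_le_right : U ⊓ U' ⊓ W ≤ U')).op t := by
        refine hinj hV ?_
        rw [hev_smul, hev_res, hev_res, X.presheaf.germ_res_apply, hr, div_mul_cancel₀ _ ha]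
      have h1 := congrArg (G.presheaf.germ (U ⊓ U' ⊓ W) (genericPoint X) hV) key
      rw [QCoh.germ_smul', G.presheaf.germ_res_apply, G.presheaf.germ_res_apply,
        X.presheaf.germ_res_apply, hr] at h1
      exact h1

end Rational

end Groth.Agent.TorLib
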